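import Cfsg.Agent.H149.Sp.Conway
import Cfsg.Agent.CpAutCoFive.Core
import Cfsg.Agent.H898.RowCo0
import Cfsg.Agent.PreUniqCo.FiveCo
import Cfsg.Agent.H961.SevX
import Cfsg.Agent.H537.CopDefs
import Mathlib
import Cfsg.Agent.H516.OddFrame
import Cfsg.Agent.BiChar.SmallCard
import Cfsg.Agent.Prune
set_option linter.all false

section
prune_inst 0x7f00000000000000000000000000000000000000000000000000000000000000000000000000000000000000000000000000000000000000000000000000000000000000000000000000000000000000003fffffffffffffffffffffffffffbeffbdffffffff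

-- part: H149/Sp/CopCo
section
set_option linter.all false
open scoped Cfsg.Agent.FastGrp

/-!
# Bounds for the centralizers of the elements of order `3, 5, 7, 11` of the Conway groups (task 1971, S4174 S4175)

* `triv_of` : commuting `a, b` with `a ^ p = b ^ p = 1` on an invariant space `W` such that vectors of `W` fixed by a
  cyclic subgroup are fixed by `a` and `b`: `W` is fixed;
* `no_sq` : no elementary abelian group of order `p ^ 2` commutes with an element of order three if the fixed spaces are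
  small.
-/

set_option autoImplicit false

namespace Cfsg.Agent.H149.Sp.CopCo

open Cfsg Module Subgroup
open Cfsg.Agent.SigZeroCo2.Rank (fix mem_fix)
open Cfsg.Agent.SigZeroCo2.Lin (rep Sp rep_injective)
open Cfsg.Agent.CpAutCoFive (nr mv mem_mv nr_fix nr_mem_fix mv_inv le_fix_of eq_zero_of_fix dvd_finrank_sub
  fix_of_coprime isCompl_mv finrank_add)
open Cfsg.Agent.PreUniqCo (Rat.sub_three_prime)
open Cfsg.Agent.PreUniqCo.LatCo (Facts)

/-! ### Linear algebra -/

section lin

variable {V : Type*} [AddCommGroup V] [Module ℚ V]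

theorem sum_pow_mul {p k : ℕ} (hp : p.Prime) (hk : ¬ p ∣ k) {b : Module.End ℚ V} (hb : b ^ p = 1) :
    ∑ m ∈ Finset.range p, b ^ (m * k) = nr b p := by
  unfold nr
  have hcop : k.Coprime p := ((Nat.Prime.coprime_iff_not_dvd hp).2 hk).symm
  have hinj : Set.InjOn (fun m => m * k % p) (Finset.range p : Set ℕ) := by
    intro x hx y hy hxy
    have h1 : x * k ≡ y * k [MOD p] := hxy
    have h2 := Nat.ModEq.cancel_right_of_coprime (m := p) (by rw [Nat.gcd_comm]; exact hcop) h1
    have hx' := Finset.mem_range.1 hx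
    have hy' := Finset.mem_range.1 hy
    unfold Nat.ModEq at h2
    rwa [Nat.mod_eq_of_lt hx', Nat.mod_eq_of_lt hy'] at h2
  have hmap : ∀ m ∈ Finset.range p, m * k % p ∈ Finset.range p :=
    fun m _ => Finset.mem_range.2 (Nat.mod_lt _ hp.pos)
  refine Finset.sum_nbij (fun m => m * k % p) hmap hinj ?_ ?_
  · exact Finset.surjOn_of_injOn_of_card_le _ (fun m hm => hmap m hm) hinj le_rfl
  · intro m _
    conv_lhs => rw [← Nat.div_add_mod (m * k) p]
    rw [pow_add, pow_mul, hb, one_pow, one_mul]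

theorem nm_identity {p : ℕ} (hp : p.Prime) {a b : Module.End ℚ V} (hb : b ^ p = 1) (hab : Commute a b) :
    ∑ m ∈ Finset.range p, nr (a * b ^ m) p = (p : ℚ) • (1 : Module.End ℚ V) + (nr a p - 1) * nr b p := by
  obtain ⟨q, rfl⟩ : ∃ q, p = q + 1 := ⟨p - 1, by have := hp.pos; omega⟩
  have h1 : ∀ m, nr (a * b ^ m) (q + 1) = ∑ k ∈ Finset.range (q + 1), a ^ k * b ^ (m * k) := by
    intro m
    unfold nr
    refine Finset.sum_congr rfl fun k _ => ?_
    rw [(hab.pow_right m).mul_pow, ← pow_mul]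
  rw [Finset.sum_congr rfl fun m _ => h1 m, Finset.sum_comm, Finset.sum_range_succ']
  have h2 : ∑ m ∈ Finset.range (q + 1), a ^ 0 * b ^ (m * 0) = ((q + 1 : ℕ) : ℚ) • (1 : Module.End ℚ V) := by
    simp only [pow_zero, mul_zero, one_mul, Finset.sum_const, Finset.card_range, Nat.cast_smul_eq_nsmul]
  have h3 : ∑ k ∈ Finset.range q, ∑ m ∈ Finset.range (q + 1), a ^ (k + 1) * b ^ (m * (k + 1)) =
      (nr a (q + 1) - 1) * nr b (q + 1) := by
    have h4 : nr a (q + 1) - 1 = ∑ k ∈ Finset.range q, a ^ (k + 1) := by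
      unfold nr
      rw [Finset.sum_range_succ', pow_zero, add_sub_cancel_right]
    rw [h4, Finset.sum_mul]
    refine Finset.sum_congr rfl fun k hk => ?_
    rw [← Finset.mul_sum, sum_pow_mul hp ?_ hb]
    intro hd
    have := Nat.le_of_dvd (Nat.succ_pos k) hd
    have := Finset.mem_range.1 hk
    omega
  rw [h2, h3, add_comm]

theorem nr_mem {p : ℕ} {c : Module.End ℚ V} {W : Submodule ℚ V} (hW : ∀ w ∈ W, c w ∈ W) {u : V} (hu : u ∈ W) :
    nr c p u ∈ W := by
  unfold nr
  rw [LinearMap.sum_apply]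
  have h : ∀ i : ℕ, (c ^ i) u ∈ W := by
    intro i
    induction i with
    | zero => exact hu
    | succ i ih => rw [pow_succ', Module.End.mul_apply]; exact hW _ ih
  exact Submodule.sum_mem _ fun i _ => h i

theorem triv_of {p : ℕ} (hp : p.Prime) {a b : Module.End ℚ V} (ha : a ^ p = 1) (hb : b ^ p = 1) (hab : Commute a b)
    {W : Submodule ℚ V} (hWa : ∀ w ∈ W, a w ∈ W) (hWb : ∀ w ∈ W, b w ∈ W)
    (h1 : W ⊓ fix b ≤ fix a) (h2 : ∀ m : ℕ, W ⊓ fix (a * b ^ m) ≤ fix b) : W ≤ fix a := by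
  intro u hu
  have hWp : ∀ m : ℕ, ∀ w ∈ W, (b ^ m) w ∈ W := by
    intro m
    induction m with
    | zero => intro w hw; exact hw
    | succ m ih => intro w hw; rw [pow_succ', Module.End.mul_apply]; exact hWb _ (ih w hw)
  have hid := congrArg (fun f : Module.End ℚ V => f u) (nm_identity hp hb hab)
  simp only [LinearMap.sum_apply, LinearMap.add_apply, LinearMap.smul_apply, Module.End.one_apply,
    Module.End.mul_apply, LinearMap.sub_apply] at hid
  have hwb : nr b p u ∈ fix a := h1 ⟨nr_mem hWb hu, nr_mem_fix hb u⟩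
  have hsum : ∑ m ∈ Finset.range p, nr (a * b ^ m) p u ∈ fix a := by
    refine Submodule.sum_mem _ fun m _ => ?_
    have hc : (a * b ^ m) ^ p = 1 := by
      rw [(hab.pow_right m).mul_pow, ha, one_mul, ← pow_mul, mul_comm, pow_mul, hb, one_pow]
    have h3 := nr_mem_fix hc u
    have h4 := h2 m ⟨nr_mem (fun w hw => by rw [Module.End.mul_apply]; exact hWa _ (hWp m w hw)) hu, h3⟩
    rw [mem_fix] at h3 h4 ⊢
    rw [Module.End.mul_apply, CpAutCoFive.pow_fix h4 m] at h3
    exact h3
  have h5 : (p : ℚ) • u ∈ fix a := by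
    have h6 : (p : ℚ) • u = ∑ m ∈ Finset.range p, nr (a * b ^ m) p u - (nr a p (nr b p u) - nr b p u) := by
      rw [hid]; abel
    rw [h6]
    refine Submodule.sub_mem _ hsum (Submodule.sub_mem _ ?_ hwb)
    rw [nr_fix (mem_fix.1 hwb)]
    exact Submodule.smul_mem _ _ hwb
  have hp0 : (p : ℚ) ≠ 0 := by exact_mod_cast hp.ne_zero
  have h7 := Submodule.smul_mem (fix a) ((p : ℚ)⁻¹) h5
  rwa [smul_smul, inv_mul_cancel₀ hp0, one_smul] at h7

/-- commuting elements of order three and `p` -/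
theorem inf_le_of_small [FiniteDimensional ℚ V] {p : ℕ} (hp : p.Prime) (h3 : p ≠ 3) {y c d : Module.End ℚ V}
    (hy : y ^ 3 = 1) (hd : d ^ p = 1) (hyc : Commute y c) (hyd : Commute y d) (hcd : Commute c d)
    (hs : finrank ℚ (mv y 3 ⊓ fix c : Submodule ℚ V) < 2 * (p - 1)) : mv y 3 ⊓ fix c ≤ fix d := by
  have hbot : mv y 3 ⊓ fix c ⊓ fix y = ⊥ := by
    rw [Submodule.eq_bot_iff]
    rintro v ⟨⟨h1, -⟩, h2⟩
    exact eq_zero_of_fix (by norm_num) (mem_fix.1 h2) h1
  obtain ⟨k, hk⟩ := PreUniqCo.Rat.sub_three_prime (mv y 3 ⊓ fix c) hp h3 hyd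
    (fun v hv => ⟨mv_inv (Commute.refl y) hv.1, PreUniqCo.Rat.fix_comm hyc.symm v hv.2⟩)
    (fun v hv => ⟨mv_inv hyd.symm hv.1, PreUniqCo.Rat.fix_comm hcd v hv.2⟩) hy hbot hd
  have hk0 : k = 0 := by
    by_contra hk0
    have : 2 * (p - 1) * 1 ≤ 2 * (p - 1) * k := Nat.mul_le_mul_left _ (Nat.pos_of_ne_zero hk0)
    omega
  rw [hk0, mul_zero, add_zero] at hk
  have h4 : mv y 3 ⊓ fix c ⊓ fix d = mv y 3 ⊓ fix c := Submodule.eq_of_le_of_finrank_le inf_le_left hk.le
  rw [← h4]
  exact inf_le_right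

/-- **No elementary abelian group.** -/
theorem mv_le_of_small [FiniteDimensional ℚ V] {p : ℕ} (hp : p.Prime) (h3 : p ≠ 3) {y a b : Module.End ℚ V}
    (hy : y ^ 3 = 1) (ha : a ^ p = 1) (hb : b ^ p = 1) (hya : Commute y a) (hyb : Commute y b) (hab : Commute a b)
    (h1 : finrank ℚ (mv y 3 ⊓ fix b : Submodule ℚ V) < 2 * (p - 1))
    (h2 : ∀ m : ℕ, finrank ℚ (mv y 3 ⊓ fix (a * b ^ m) : Submodule ℚ V) < 2 * (p - 1)) : mv y 3 ≤ fix a :=
  triv_of hp ha hb hab (fun _ hw => mv_inv hya.symm hw) (fun _ hw => mv_inv hyb.symm hw)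
    (inf_le_of_small hp h3 hy ha hyb hya hab.symm h1)
    (fun m => inf_le_of_small hp h3 hy hb (hya.mul_right (hyb.pow_right m)) hyb
      (hab.mul_left ((Commute.refl b).pow_left m)) (h2 m))

/-- two elements of coprime orders `m`, `n` acting freely (in the strong sense) on `mv x p ⊓ mv y q` -/
theorem totient_dvd [FiniteDimensional ℚ V] {m n p q : ℕ} (hmn : m.Coprime n) (hm : 1 < m) (hn : 1 < n)
    (hmp : ∀ l : ℕ, l.Prime → l ∣ m → l = p) (hnq : ∀ l : ℕ, l.Prime → l ∣ n → l = q)
    {f g x y : Module.End ℚ V} (hf : f ^ m = 1) (hg : g ^ n = 1) (hfg : Commute f g)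
    (hx : f ^ (m / p) = x) (hy : g ^ (n / q) = y) (hp : p ≠ 0) (hq : q ≠ 0) :
    (m * n).totient ∣ finrank ℚ (mv x p ⊓ mv y q : Submodule ℚ V) := by
  subst hx hy
  refine dvd_finrank_sub (f := f * g) (Nat.mul_pos (by omega) (by omega)) ?_ ?_ ?_
  · rw [hfg.mul_pow, pow_mul, hf, one_pow, one_mul, mul_comm m n, pow_mul, hg, one_pow]
  · rintro w ⟨h1, h2⟩
    exact ⟨mv_inv (((Commute.refl f).pow_right _).mul_left (hfg.symm.pow_right _)) h1,
      mv_inv ((hfg.pow_right _).mul_left ((Commute.refl g).pow_right _)) h2⟩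
  · rintro l hl hlm v ⟨h1, h2⟩ hv
    rcases hl.dvd_mul.1 hlm with h | h
    · have hlp := hmp l hl h
      subst hlp
      refine eq_zero_of_fix hp ?_ h1
      have hdiv : m * n / l = m / l * n := by
        rw [mul_comm m n, Nat.mul_div_assoc _ h, mul_comm]
      rw [hdiv, hfg.mul_pow, mul_comm (m / l) n, pow_mul g, hg, one_pow, mul_one, mul_comm n, pow_mul] at hv
      refine fix_of_coprime (a := n) (b := m) hmn.symm hm hv ?_
      rw [← pow_mul, mul_comm, pow_mul, hf, one_pow]
      rfl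
    · have hlq := hnq l hl h
      subst hlq
      refine eq_zero_of_fix hq ?_ h2
      have hdiv : m * n / l = n / l * m := by
        rw [Nat.mul_div_assoc _ h, mul_comm]
      rw [hdiv, hfg.mul_pow, mul_comm (n / l) m, pow_mul f, hf, one_pow, one_mul, mul_comm m, pow_mul] at hv
      refine fix_of_coprime (a := m) (b := n) hmn hn hv ?_
      rw [← pow_mul, mul_comm, pow_mul, hg, one_pow]
      rfl

/-- a moved space of small dimension in another moved space -/
theorem mv_le_fix_of_inf {p q : ℕ} (hq : q ≠ 0) {x y : Module.End ℚ V} (hy : y ^ q = 1) (hxy : Commute x y)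
    (h : (mv x p ⊓ mv y q : Submodule ℚ V) = ⊥) : mv x p ≤ fix y := by
  refine le_fix_of hq hy (fun w hw => mv_inv hxy.symm hw) fun w hw hw' => ?_
  have h1 : w ∈ (mv x p ⊓ mv y q : Submodule ℚ V) := ⟨hw, hw'⟩
  rwa [h, Submodule.mem_bot] at h1

end lin

/-! ### Groups of order `p ^ 2` -/

/-- a group of order `p ^ 2` has an element of order `p ^ 2` or two good generators -/
theorem gens {G : Type*} [Group G] [Finite G] {p : ℕ} (hp : p.Prime) {E : Subgroup G} (hE : Nat.card E = p ^ 2) :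
    (∃ g ∈ E, orderOf g = p ^ 2) ∨
    ∃ a ∈ E, ∃ b ∈ E, orderOf a = p ∧ orderOf b = p ∧ (∀ m : ℕ, orderOf (a * b ^ m) = p) ∧ Commute a b := by
  have := Fact.mk hp
  by_cases h : ∃ g ∈ E, orderOf g = p ^ 2
  · exact Or.inl h
  right
  push Not at h
  have hord : ∀ x ∈ E, x ≠ 1 → orderOf x = p := by
    intro x hx h1
    have h2 : orderOf x ∣ p ^ 2 := by
      rw [← hE]
      exact Subgroup.orderOf_dvd_natCard E hx
    obtain ⟨k, hk, hk'⟩ := (Nat.dvd_prime_pow hp).1 h2
    interval_cases k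
    · rw [pow_zero, orderOf_eq_one_iff] at hk'
      exact absurd hk' h1
    · rw [hk', pow_one]
    · exact absurd hk' (h x hx)
  have hcm : ∀ x ∈ E, ∀ y ∈ E, x * y = y * x := by
    intro x hx y hy
    let _ := IsPGroup.commGroupOfCardEqPrimeSq hE
    exact congrArg Subtype.val (mul_comm (⟨x, hx⟩ : E) ⟨y, hy⟩)
  have hne : E ≠ ⊥ := by
    rintro rfl
    rw [card_bot] at hE
    exact (Nat.one_lt_pow two_ne_zero hp.one_lt).ne hE
  obtain ⟨b, hb, hb1⟩ := E.bot_or_exists_ne_one.resolve_left hne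
  have hB : ¬ E ≤ zpowers b := by
    intro h
    have h1 := Nat.le_of_dvd Nat.card_pos (card_dvd_of_le h)
    rw [hE, Nat.card_zpowers, hord b hb hb1] at h1
    have h2 : p * 1 < p * p := Nat.mul_lt_mul_of_pos_left hp.one_lt hp.pos
    rw [pow_two] at h1
    omega
  obtain ⟨a, ha, hab⟩ := SetLike.not_le_iff_exists.1 hB
  have hm : ∀ m : ℕ, orderOf (a * b ^ m) = p := fun m => hord _ (E.mul_mem ha (E.pow_mem hb m)) fun h => hab (by
    rw [eq_inv_of_mul_eq_one_left h]
    exact inv_mem (pow_mem (mem_zpowers b) m))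
  refine ⟨a, ha, b, hb, ?_, hord b hb hb1, hm, hcm a ha b hb⟩
  have := hm 0
  rwa [pow_zero, mul_one] at this

/-! ### `Co0` -/

theorem facts : Facts := PreUniqCo.Facts.facts

theorem rep_pow {g : Co0} {n : ℕ} (h : orderOf g = n) : rep g ^ n = 1 := by
  rw [← map_pow, ← h, pow_orderOf_eq_one, map_one]

theorem comm_rep {g h : Co0} (hc : Commute g h) : Commute (rep g) (rep h) := hc.map rep

theorem fix_le_three {y : Co0} (hy : orderOf y = 3) : finrank ℚ (fix (rep y)) ≤ 12 := by
  rcases facts.dims y hy with h | h | h | h <;> omega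

theorem twelve_le {y : Co0} (hy : orderOf y = 3) : 12 ≤ finrank ℚ (mv (rep y) 3) := by
  have h1 := finrank_add (u := rep y) (r := 3) (by norm_num) (rep_pow hy)
  rw [finrank_Sp] at h1
  have := fix_le_three hy
  omega

theorem fix_le_seven {x : Co0} (hx : orderOf x = 7) : finrank ℚ (fix (rep x)) ≤ 6 := fd_le (Or.inr (Or.inl rfl)) hx

theorem fix_le_five {x : Co0} (hx : orderOf x = 5) : finrank ℚ (fix (rep x)) ≤ 8 := fd_le (Or.inl rfl) hx

theorem toV_mem {v : leechLattice} {g : Co0} (h : g • v = v) : SigZeroCo2.Lin.toV v ∈ fix (rep g) := by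
  rw [mem_fix, SigZeroCo2.Lin.rep_toV, h]

theorem toV_ne {v : leechLattice} (h : v ≠ 0) : SigZeroCo2.Lin.toV v ≠ 0 := by
  intro h1
  rw [← SigZeroCo2.Lin.toV_zero] at h1
  exact h (SigZeroCo2.Lin.toV_injective h1)

/-- **`49` does not divide the order of the centralizer of an element of order three.** -/
theorem no_49 {y : Co0} (hy : orderOf y = 3) {G : Type*} [Group G] [Finite G] {φ : G →* Co0}
    (hφ : Function.Injective φ) (hc : ∀ g, Commute y (φ g)) : ¬ 49 ∣ Nat.card G := by
  intro hd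
  have h7 : Fact (Nat.Prime 7) := ⟨by norm_num⟩
  obtain ⟨P, hP⟩ := Sylow.exists_subgroup_card_pow_prime 7 (n := 2) (G := G) hd
  have ho : ∀ g : G, orderOf (φ g) = orderOf g := orderOf_injective φ hφ
  rcases gens h7.out hP with ⟨g, -, hg⟩ | ⟨a, -, b, -, oa, ob, om, hab⟩
  · have o1 : orderOf (φ g) = 49 := by rw [ho, hg]; norm_num
    have o2 : orderOf (φ g ^ 7) = 7 := by rw [orderOf_pow_of_dvd (by norm_num) (by rw [o1]; norm_num), o1]
    have h1 : Nat.totient 49 ∣ finrank ℚ (mv (rep (φ g ^ 7)) 7) := by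
      refine dvd_finrank_sub (by norm_num) (rep_pow o1) (fun w hw => mv_inv (comm_rep ((Commute.refl _).pow_right 7)) hw) ?_
      intro p hp hp49 v hv hv'
      have h2 : p = 7 := (Nat.prime_dvd_prime_iff_eq hp h7.out).1 (hp.dvd_of_dvd_pow (show p ∣ 7 ^ 2 from hp49))
      subst h2
      refine eq_zero_of_fix (by norm_num) ?_ hv
      rw [map_pow]
      exact hv'
    have h2 := finrank_add (u := rep (φ g ^ 7)) (r := 7) (by norm_num) (rep_pow o2)
    rw [finrank_Sp] at h2
    have h3 : Nat.totient 49 = 42 := by decide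
    rw [h3] at h1
    have := fix_le_seven o2
    omega
  · have h1 : ∀ c : G, orderOf c = 7 → finrank ℚ (mv (rep y) 3 ⊓ fix (rep (φ c)) : Submodule ℚ Sp) < 2 * (7 - 1) := by
      intro c hc7
      have h2 : finrank ℚ (mv (rep y) 3 ⊓ fix (rep (φ c)) : Submodule ℚ Sp) ≤ finrank ℚ (fix (rep (φ c))) :=
        Submodule.finrank_mono inf_le_right
      have := fix_le_seven ((ho c).trans hc7)
      omega
    have h2 := mv_le_of_small (p := 7) (by norm_num) (by norm_num) (y := rep y) (a := rep (φ a)) (b := rep (φ b))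
      (rep_pow hy) (rep_pow ((ho a).trans oa)) (rep_pow ((ho b).trans ob)) (comm_rep (hc a)) (comm_rep (hc b))
      (comm_rep (hab.map φ)) (h1 b ob) (fun m => by
        rw [← map_pow, ← map_mul, ← map_pow, ← map_mul]
        exact h1 _ (om m))
    have h3 := Submodule.finrank_mono h2
    have := twelve_le hy
    have := fix_le_seven ((ho a).trans oa)
    omega

/-- **`25` does not divide the order of the centralizer in the stabilizer of a vector.** -/
theorem no_25 {y : Co0} (hy : orderOf y = 3) {v : leechLattice} (hv : v ≠ 0) (hyv : y • v = v) {G : Type*} [Group G]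
    [Finite G] {φ : G →* Co0} (hφ : Function.Injective φ) (hc : ∀ g, Commute y (φ g)) (hfix : ∀ g, φ g • v = v) :
    ¬ 25 ∣ Nat.card G := by
  intro hd
  have h5 : Fact (Nat.Prime 5) := ⟨by norm_num⟩
  obtain ⟨P, hP⟩ := Sylow.exists_subgroup_card_pow_prime 5 (n := 2) (G := G) hd
  have ho : ∀ g : G, orderOf (φ g) = orderOf g := orderOf_injective φ hφ
  rcases gens h5.out hP with ⟨g, -, hg⟩ | ⟨a, -, b, -, oa, ob, om, hab⟩
  · have o1 : orderOf (φ g) = 25 := by rw [ho, hg]; norm_num
    have o2 : orderOf (φ g ^ 5) = 5 := by rw [orderOf_pow_of_dvd (by norm_num) (by rw [o1]; norm_num), o1]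
    have h1 := totient_dvd (m := 3) (n := 25) (p := 3) (q := 5) (by norm_num) (by norm_num) (by norm_num)
      (fun l hl hd => (Nat.prime_dvd_prime_iff_eq hl (by norm_num)).1 hd)
      (fun l hl hd => (Nat.prime_dvd_prime_iff_eq hl h5.out).1 (hl.dvd_of_dvd_pow (show l ∣ 5 ^ 2 from hd)))
      (rep_pow hy) (rep_pow o1) (comm_rep (hc g)) (x := rep y) (y := rep (φ g ^ 5)) (by norm_num)
      (by rw [map_pow]) (by norm_num) (by norm_num)
    have h3 : Nat.totient (3 * 25) = 40 := by decide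
    rw [h3] at h1
    have h4 : finrank ℚ (mv (rep y) 3 ⊓ mv (rep (φ g ^ 5)) 5 : Submodule ℚ Sp) ≤ 24 := by
      rw [← finrank_Sp]
      exact Submodule.finrank_le _
    have h6 := mv_le_fix_of_inf (by norm_num) (rep_pow o2) (comm_rep ((hc g).pow_right 5))
      (Submodule.finrank_eq_zero.1 (show finrank ℚ (mv (rep y) 3 ⊓ mv (rep (φ g ^ 5)) 5 : Submodule ℚ Sp) = 0 by omega))
    have h7 := Submodule.finrank_mono h6
    have := twelve_le hy
    have := fix_le_five o2
    omega
  · have h1 : ∀ c : G, orderOf c = 5 → finrank ℚ (mv (rep y) 3 ⊓ fix (rep (φ c)) : Submodule ℚ Sp) < 2 * (5 - 1) := by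
      intro c hc5
      have h2 : finrank ℚ (mv (rep y) 3 ⊓ fix (rep (φ c)) : Submodule ℚ Sp) < finrank ℚ (fix (rep (φ c))) := by
        apply Submodule.finrank_lt_finrank_of_lt
        refine lt_of_le_of_ne inf_le_right fun h => ?_
        have h3 := toV_mem (hfix c)
        rw [← h] at h3
        exact toV_ne hv (eq_zero_of_fix (by norm_num) (mem_fix.1 (toV_mem hyv)) h3.1)
      have := fix_le_five ((ho c).trans hc5)
      omega
    have h2 := mv_le_of_small (p := 5) (by norm_num) (by norm_num) (y := rep y) (a := rep (φ a)) (b := rep (φ b))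
      (rep_pow hy) (rep_pow ((ho a).trans oa)) (rep_pow ((ho b).trans ob)) (comm_rep (hc a)) (comm_rep (hc b))
      (comm_rep (hab.map φ)) (h1 b ob) (fun m => by
        rw [← map_pow, ← map_mul, ← map_pow, ← map_mul]
        exact h1 _ (om m))
    have h3 := Submodule.finrank_mono h2
    have := twelve_le hy
    have := fix_le_five ((ho a).trans oa)
    omega

/-- the moved space of an element of order seven with a fixed vector -/
theorem fix_seven {x : Co0} (hx : orderOf x = 7) {v : leechLattice} (hv : v ≠ 0) (hxv : x • v = v) :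
    finrank ℚ (fix (rep x)) = 6 := by
  obtain ⟨k, hk⟩ := PreUniqCo.Rat.prime_dvd (r := 7) (by norm_num) (rep_pow hx)
  rw [finrank_Sp] at hk
  have h1 := fix_le_seven hx
  have h2 : 0 < finrank ℚ (fix (rep x)) := by
    have : Nontrivial (fix (rep x)) := ⟨⟨⟨_, toV_mem hxv⟩, 0, fun h => toV_ne hv (congrArg Subtype.val h)⟩⟩
    exact Module.finrank_pos
  omega

/-- **elements of order seven with a fixed vector: `9` does not divide the order of the centralizer** -/
theorem no_9 {x : Co0} (hx : orderOf x = 7) {v : leechLattice} (hv : v ≠ 0) (hxv : x • v = v) {G : Type*} [Group G]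
    [Finite G] {φ : G →* Co0} (hφ : Function.Injective φ) (hc : ∀ g, Commute x (φ g)) : ¬ 9 ∣ Nat.card G := by
  intro hd
  have h3 : Fact (Nat.Prime 3) := ⟨by norm_num⟩
  obtain ⟨P, hP⟩ := Sylow.exists_subgroup_card_pow_prime 3 (n := 2) (G := G) hd
  have ho : ∀ g : G, orderOf (φ g) = orderOf g := orderOf_injective φ hφ
  have h6 := fix_seven hx hv hxv
  have h18 := finrank_add (u := rep x) (r := 7) (by norm_num) (rep_pow hx)
  rw [finrank_Sp] at h18
  rcases gens h3.out hP with ⟨g, -, hg⟩ | ⟨a, -, b, -, oa, ob, om, hab⟩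
  · have o1 : orderOf (φ g) = 9 := by rw [ho, hg]; norm_num
    have o2 : orderOf (φ g ^ 3) = 3 := by rw [orderOf_pow_of_dvd (by norm_num) (by rw [o1]; norm_num), o1]
    have h1 := totient_dvd (m := 7) (n := 9) (p := 7) (q := 3) (by norm_num) (by norm_num) (by norm_num)
      (fun l hl hd => (Nat.prime_dvd_prime_iff_eq hl (by norm_num)).1 hd)
      (fun l hl hd => (Nat.prime_dvd_prime_iff_eq hl h3.out).1 (hl.dvd_of_dvd_pow (show l ∣ 3 ^ 2 from hd)))
      (rep_pow hx) (rep_pow o1) (comm_rep (hc g)) (x := rep x) (y := rep (φ g ^ 3)) (by norm_num)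
      (by rw [map_pow]) (by norm_num) (by norm_num)
    have h3 : Nat.totient (7 * 9) = 36 := by decide
    rw [h3] at h1
    have h4 : finrank ℚ (mv (rep x) 7 ⊓ mv (rep (φ g ^ 3)) 3 : Submodule ℚ Sp) ≤ 24 := by
      rw [← finrank_Sp]
      exact Submodule.finrank_le _
    have h5 := mv_le_fix_of_inf (by norm_num) (rep_pow o2) (comm_rep ((hc g).pow_right 3))
      (Submodule.finrank_eq_zero.1 (show finrank ℚ (mv (rep x) 7 ⊓ mv (rep (φ g ^ 3)) 3 : Submodule ℚ Sp) = 0 by omega))
    have h7 := Submodule.finrank_mono h5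
    have := fix_le_three o2
    omega
  · have key : ∀ c : G, orderOf c = 3 → finrank ℚ (fix (rep (φ c))) ≠ 0 := by
      intro c hc3 h0
      have hbot : fix (rep (φ c)) = ⊥ := Submodule.finrank_eq_zero.1 h0
      obtain ⟨k, hk⟩ := PreUniqCo.Rat.three_prime_dvd (r := 7) (by norm_num) (by norm_num) (e := rep (φ c)) (f := rep x)
        (comm_rep (hc c)).symm (rep_pow ((ho c).trans hc3)) hbot (rep_pow hx)
      rw [finrank_Sp] at hk
      omega
    have e1 : φ a * φ b = φ (a * b ^ 1) := by rw [pow_one, map_mul]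
    have e2 : φ a * φ b ^ 2 = φ (a * b ^ 2) := by rw [map_mul, map_pow]
    rcases PreUniqCo.LatCo.exists_free facts (r := 7) (by norm_num) (by norm_num) (a := φ a) (b := φ b) (y := x)
      (by rw [ho, oa]) (by rw [ho, ob]) (by rw [e1, ho, om]) (by rw [e2, ho, om]) hx (hab.map φ) (hc a).symm
      (hc b).symm with h | h | h | h
    · exact key a oa h
    · exact key b ob h
    · rw [e1] at h
      exact key _ (om 1) h
    · rw [e2] at h
      exact key _ (om 2) h

/-- elements of order seven with a fixed vector do not commute with elements of order five -/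
theorem ne_five {x z : Co0} (hx : orderOf x = 7) {v : leechLattice} (hv : v ≠ 0) (hxv : x • v = v)
    (hz : orderOf z = 5) (hc : Commute x z) : False := by
  have h6 := fix_seven hx hv hxv
  have h18 := finrank_add (u := rep x) (r := 7) (by norm_num) (rep_pow hx)
  rw [finrank_Sp] at h18
  have h1 := totient_dvd (m := 7) (n := 5) (p := 7) (q := 5) (by norm_num) (by norm_num) (by norm_num)
    (fun l hl hd => (Nat.prime_dvd_prime_iff_eq hl (by norm_num)).1 hd)
    (fun l hl hd => (Nat.prime_dvd_prime_iff_eq hl (by norm_num)).1 hd)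
    (rep_pow hx) (rep_pow hz) (comm_rep hc) (x := rep x) (y := rep z) (by norm_num)
    (by norm_num) (by norm_num) (by norm_num)
  have h3 : Nat.totient (7 * 5) = 24 := by decide
  rw [h3] at h1
  have h4 : finrank ℚ (mv (rep x) 7 ⊓ mv (rep z) 5 : Submodule ℚ Sp) ≤ finrank ℚ (mv (rep x) 7) :=
    Submodule.finrank_mono inf_le_left
  have h5 := mv_le_fix_of_inf (by norm_num) (rep_pow hz) (comm_rep hc)
    (Submodule.finrank_eq_zero.1 (show finrank ℚ (mv (rep x) 7 ⊓ mv (rep z) 5 : Submodule ℚ Sp) = 0 by omega))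
  have h7 := Submodule.finrank_mono h5
  have := fix_le_five hz
  omega

/-- `3` and `11` with a common fixed vector -/
theorem ne_eleven {x y : Co0} (hx : orderOf x = 11) (hy : orderOf y = 3) {v : leechLattice} (hv : v ≠ 0)
    (hyv : y • v = v) (hc : Commute x y) : False := by
  have h1 := totient_dvd (m := 11) (n := 3) (p := 11) (q := 3) (by norm_num) (by norm_num) (by norm_num)
    (fun l hl hd => (Nat.prime_dvd_prime_iff_eq hl (by norm_num)).1 hd)
    (fun l hl hd => (Nat.prime_dvd_prime_iff_eq hl (by norm_num)).1 hd)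
    (rep_pow hx) (rep_pow hy) (comm_rep hc) (x := rep x) (y := rep y) (by norm_num)
    (by norm_num) (by norm_num) (by norm_num)
  have h3 : Nat.totient (11 * 3) = 20 := by decide
  rw [h3] at h1
  have hfx : finrank ℚ (fix (rep x)) ≤ 4 := fd_le (Or.inr (Or.inr (Or.inl rfl))) hx
  have h20 := finrank_add (u := rep x) (r := 11) (by norm_num) (rep_pow hx)
  have h24 := finrank_add (u := rep y) (r := 3) (by norm_num) (rep_pow hy)
  rw [finrank_Sp] at h20 h24
  have h0 : 0 < finrank ℚ (fix (rep y)) := by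
    have : Nontrivial (fix (rep y)) := ⟨⟨⟨_, toV_mem hyv⟩, 0, fun h => toV_ne hv (congrArg Subtype.val h)⟩⟩
    exact Module.finrank_pos
  have hd := facts.dims y hy
  have h4 : finrank ℚ (mv (rep x) 11 ⊓ mv (rep y) 3 : Submodule ℚ Sp) ≤ finrank ℚ (mv (rep y) 3) :=
    Submodule.finrank_mono inf_le_right
  have h5 := mv_le_fix_of_inf (by norm_num) (rep_pow hy) (comm_rep hc)
    (Submodule.finrank_eq_zero.1 (show finrank ℚ (mv (rep x) 11 ⊓ mv (rep y) 3 : Submodule ℚ Sp) = 0 by omega))
  have h7 := Submodule.finrank_mono h5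
  omega

end Cfsg.Agent.H149.Sp.CopCo
end

-- part: H149/Sp/CopCoMain
section
set_option linter.all false
open scoped Cfsg.Agent.FastGrp

/-!
# The centralizer bounds of `Co1`, `Co2`, `Co3` (task 1971, S4174 S4175)

* `Co1` : `CB 3 7 1`, `CB 7 3 2`, `CB 7 5 1`, and `CB p q 0` for different primes `p, q` among `5, 7, 11, 13, 23` other
  than `5, 7`;
* `Co2`, `Co3` : `CB 3 5 1`, `CB 5 3 1`, `CB 11 3 0`, `CB p q 0` for different primes `p, q` among `5, 7, 11, 13, 23`.
-/

set_option autoImplicit false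

namespace Cfsg.Agent.H149.Sp.CopCo

open Cfsg Module Subgroup
open Cfsg.Agent.SigZeroCo2.Rank (fix mem_fix)
open Cfsg.Agent.SigZeroCo2.Lin (rep Sp rep_injective)
open Cfsg.Agent.H537.Cop
open Cfsg.Spor (Co1)

/-! ### Stabilizers of vectors -/

section stab

variable {T : Type*} [Group T] [Finite T] {f : T →* Co0} {v : leechLattice}

theorem stab_3_5 (hf : Function.Injective f) (hv : v ≠ 0) (hfix : ∀ g, f g • v = v) : CB 3 5 1 T := by
  intro x hx
  have h := no_25 (y := f x) ((orderOf_injective f hf x).trans hx) hv (hfix x)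
    (G := centralizer ({x} : Set T)) (φ := f.comp (Subgroup.subtype _)) (hf.comp (Subgroup.subtype_injective _))
    (fun g => by
      have h1 : (g : T) * x = x * g := mem_centralizer_singleton_iff.1 g.2
      exact (show Commute x (g : T) from h1.symm).map f) (fun g => hfix _)
  norm_num only []
  exact h

theorem stab_5_3 (hf : Function.Injective f) (hv : v ≠ 0) (hfix : ∀ g, f g • v = v) : CB 5 3 1 T := by
  intro x hx
  have h := CpAutCoFive.not_nine facts (H := centralizer ({x} : Set T)) (φ := f.comp (Subgroup.subtype _))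
    (hf.comp (Subgroup.subtype_injective _)) hv (fun h => hfix _)
    (x := ⟨x, mem_centralizer_singleton_iff.2 rfl⟩) (by rw [Subgroup.orderOf_mk, hx])
    (fun g => Subtype.ext (mem_centralizer_singleton_iff.1 g.2))
  norm_num only []
  exact h

theorem stab_11_3 (hf : Function.Injective f) (hv : v ≠ 0) (hfix : ∀ g, f g • v = v) : CB 11 3 0 T := by
  refine CB.of_ne Nat.prime_three fun x y hx hy hc => ?_
  exact ne_eleven ((orderOf_injective f hf x).trans hx) ((orderOf_injective f hf y).trans hy) hv (hfix y)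
    ((show Commute x y from hc).map f)

theorem stab_p5 (hf : Function.Injective f) (hv : v ≠ 0) (hfix : ∀ g, f g • v = v) {p q : ℕ} (hp : P5 p) (hq : P5 q)
    (hpq : p ≠ q) : CB p q 0 T := by
  refine CB.of_ne hq.prime fun x y hx hy hc => ?_
  have key : ∀ (p q : ℕ) (x y : T), P5 p → P5 q → p < q → orderOf x = p → orderOf y = q → x * y = y * x → False := by
    intro p q x y hp hq hpq hx hy hc
    have h1 : f x * f y = f y * f x := by rw [← map_mul, hc, map_mul]
    by_cases h57 : p = 5 ∧ q = 7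
    · obtain ⟨rfl, rfl⟩ := h57
      exact co0_not_comm_fix hv (hfix x) (hfix y) ((orderOf_injective f hf x).trans hx)
        ((orderOf_injective f hf y).trans hy) h1
    · exact co0_not_comm hp hq hpq h57 ((orderOf_injective f hf x).trans hx) ((orderOf_injective f hf y).trans hy) h1
  rcases Nat.lt_or_gt_of_ne hpq with h | h
  · exact key p q x y hp hq h hx hy hc
  · exact key q p y x hq hp h hy hx hc.symm

end stab

/-- the embedding of `Co2` -/
noncomputable def f2 : Spor.Co2 →* Co0 := Subgroup.inclusion (inf_le_left : Spor.Co2 ≤ Co0)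

theorem f2_inj : Function.Injective f2 := Subgroup.inclusion_injective _

theorem f2_fix (g : Spor.Co2) : f2 g • Spor.leechU = Spor.leechU := g.2.2

/-- the embedding of `Co3` -/
noncomputable def f3 : Spor.Co3 →* Co0 := Subgroup.inclusion (inf_le_left : Spor.Co3 ≤ Co0)

theorem f3_inj : Function.Injective f3 := Subgroup.inclusion_injective _

theorem f3_fix (g : Spor.Co3) : f3 g • Spor.leechV = Spor.leechV := g.2.2

theorem finite_co2 : Finite Spor.Co2 := by
  have : Finite Co0 := Cfsg.Agent.CoOneType.FrameFix.finite_co0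
  exact Finite.of_injective f2 f2_inj

theorem finite_co3 : Finite Spor.Co3 := by
  have : Finite Co0 := Cfsg.Agent.CoOneType.FrameFix.finite_co0
  exact Finite.of_injective f3 f3_inj

theorem finite_co1 : Finite Spor.Co1 := by
  have : Finite Co0 := Cfsg.Agent.CoOneType.FrameFix.finite_co0
  exact Quotient.finite _

/-! ### `Co2` -/

theorem co2_3_5 : CB 3 5 1 Spor.Co2 := by
  have := finite_co2
  exact stab_3_5 f2_inj leechU_ne f2_fix

theorem co2_5_3 : CB 5 3 1 Spor.Co2 := by
  have := finite_co2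
  exact stab_5_3 f2_inj leechU_ne f2_fix

theorem co2_11_3 : CB 11 3 0 Spor.Co2 := by
  have := finite_co2
  exact stab_11_3 f2_inj leechU_ne f2_fix

theorem co2_p5 {p q : ℕ} (hp : P5 p) (hq : P5 q) (hpq : p ≠ q) : CB p q 0 Spor.Co2 := by
  have := finite_co2
  exact stab_p5 f2_inj leechU_ne f2_fix hp hq hpq

theorem co2_11_5 : CB 11 5 0 Spor.Co2 := co2_p5 p11 p5 (by norm_num)

theorem co2_7_5 : CB 7 5 0 Spor.Co2 := co2_p5 p7 p5 (by norm_num)

/-! ### `Co3` -/

theorem co3_3_5 : CB 3 5 1 Spor.Co3 := by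
  have := finite_co3
  exact stab_3_5 f3_inj leechV_ne f3_fix

theorem co3_5_3 : CB 5 3 1 Spor.Co3 := by
  have := finite_co3
  exact stab_5_3 f3_inj leechV_ne f3_fix

theorem co3_11_3 : CB 11 3 0 Spor.Co3 := by
  have := finite_co3
  exact stab_11_3 f3_inj leechV_ne f3_fix

theorem co3_p5 {p q : ℕ} (hp : P5 p) (hq : P5 q) (hpq : p ≠ q) : CB p q 0 Spor.Co3 := by
  have := finite_co3
  exact stab_p5 f3_inj leechV_ne f3_fix hp hq hpq

/-! ### `Co1` -/

theorem card_lift {x : Co0} {n : ℕ} (hn : Odd n) (hx : x ^ n = 1) :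
    Nat.card (centralizer ({(QuotientGroup.mk x : Co1)} : Set Co1)) ∣ Nat.card (centralizer ({x} : Set Co0)) := by
  have h1 : (centralizer ({(QuotientGroup.mk x : Co1)} : Set Co1)).comap (QuotientGroup.mk' (Subgroup.center Co0)) =
      centralizer {x} := by
    ext g
    rw [mem_comap, mem_centralizer_singleton_iff, mem_centralizer_singleton_iff]
    constructor
    · intro h
      exact (Cfsg.Agent.LThreeBX.NoSeven.comm_of_mk hn hx (a := x) (b := g) h.symm).symm
    · intro h
      have h1 : (QuotientGroup.mk (g * x) : Co1) = QuotientGroup.mk (x * g) := by rw [h]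
      exact h1
  have h2 : (centralizer ({x} : Set Co0)).map (QuotientGroup.mk' (Subgroup.center Co0)) =
      centralizer ({(QuotientGroup.mk x : Co1)} : Set Co1) := by
    rw [← h1]
    exact Subgroup.map_comap_eq_self_of_surjective (QuotientGroup.mk'_surjective _) _
  rw [← h2]
  exact Subgroup.card_map_dvd _ _

theorem exists_lift {s : Co1} {p : ℕ} (hp : p.Prime) (h2 : p ≠ 2) (hs : orderOf s = p) :
    ∃ a : Co0, (QuotientGroup.mk a : Co1) = s ∧ orderOf a = p := by
  have hop : Odd p := hp.odd_of_ne_two h2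
  obtain ⟨a, rfl, ha⟩ := Cfsg.Agent.LThreeBX.NoSeven.exists_odd hop (show s ^ p = 1 by rw [← hs, pow_orderOf_eq_one])
  refine ⟨a, rfl, ?_⟩
  have := Fact.mk hp
  refine orderOf_eq_prime ha ?_
  rintro rfl
  change orderOf (1 : Co1) = p at hs
  rw [orderOf_one] at hs
  exact hp.one_lt.ne hs

theorem cb_co1 {p q j : ℕ} (hp : p.Prime) (h2 : p ≠ 2)
    (h : ∀ a : Co0, orderOf a = p → ¬ q ^ (j + 1) ∣ Nat.card (centralizer ({a} : Set Co0))) : CB p q j Spor.Co1 := by
  intro s hs hd
  obtain ⟨a, rfl, ha⟩ := exists_lift hp h2 hs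
  exact h a ha (hd.trans (card_lift (hp.odd_of_ne_two h2) (by rw [← ha, pow_orderOf_eq_one])))

theorem comm_cent (a : Co0) (g : centralizer ({a} : Set Co0)) : Commute a (Subgroup.subtype _ g) :=
  (mem_centralizer_singleton_iff.1 g.2).symm

theorem co1_3_7 : CB 3 7 1 Spor.Co1 := by
  have : Finite Co0 := Cfsg.Agent.CoOneType.FrameFix.finite_co0
  refine cb_co1 Nat.prime_three (by norm_num) fun a ha => ?_
  have h := no_49 ha (Subgroup.subtype_injective (centralizer ({a} : Set Co0))) (comm_cent a)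
  norm_num only []
  exact h

theorem co1_7_3 : CB 7 3 2 Spor.Co1 := by
  have : Finite Co0 := Cfsg.Agent.CoOneType.FrameFix.finite_co0
  refine cb_co1 (by norm_num) (by norm_num) fun a ha hd => ?_
  by_cases hfree : ∀ v : leechLattice, a • v = v → v = 0
  · have h1 := hd.trans (H813.CoSevenCard.card_dvd ha hfree)
    norm_num at h1
  · push Not at hfree
    obtain ⟨v, hav, hv⟩ := hfree
    refine no_9 ha hv hav (Subgroup.subtype_injective (centralizer ({a} : Set Co0))) (comm_cent a) ?_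
    exact (show 9 ∣ 3 ^ (2 + 1) by norm_num).trans hd

theorem co1_7_5 : CB 7 5 1 Spor.Co1 := by
  have : Finite Co0 := Cfsg.Agent.CoOneType.FrameFix.finite_co0
  refine cb_co1 (by norm_num) (by norm_num) fun a ha hd => ?_
  by_cases hfree : ∀ v : leechLattice, a • v = v → v = 0
  · have h1 := hd.trans (H813.CoSevenCard.card_dvd ha hfree)
    norm_num at h1
  · push Not at hfree
    obtain ⟨v, hav, hv⟩ := hfree
    have h5 : Fact (Nat.Prime 5) := ⟨by norm_num⟩
    obtain ⟨z, hz⟩ := exists_prime_orderOf_dvd_card' (G := centralizer ({a} : Set Co0)) 5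
      ((show 5 ∣ 5 ^ (1 + 1) by norm_num).trans hd)
    exact ne_five ha hv hav ((orderOf_injective _ (Subgroup.subtype_injective _) z).trans hz) (comm_cent a z)

theorem co1_p5 {p q : ℕ} (hp : P5 p) (hq : P5 q) (hpq : p ≠ q) (h57 : ¬ (p = 5 ∧ q = 7)) (h75 : ¬ (p = 7 ∧ q = 5)) :
    CB p q 0 Spor.Co1 := by
  have := finite_co1
  refine CB.of_ne hq.prime fun x y hx hy hc => ?_
  rcases Nat.lt_or_gt_of_ne hpq with h | h
  · exact co1_not_comm hp hq h h57 hx hy hc
  · exact co1_not_comm hq hp h (fun h' => h75 ⟨h'.2, h'.1⟩) hy hx hc.symm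

end Cfsg.Agent.H149.Sp.CopCo
end

-- part: H220/S4096/RowCo2
section
set_option linter.all false
open scoped Cfsg.Agent.FastGrp

/-!
# S4096, S4094, S3842 : the odd row of `Co₂` (helper220)

* `cb_twentythree_three` : no elements of order `69` in `Co₂`;
* `odd_dvd` : `|C(b)|` divides `2 ^ 18 m` with `m < 2 ^ 18` for the elements `b` of odd prime order;
* `row`.
-/

set_option autoImplicit false

namespace Cfsg.Agent.H220.S4096.RowCo2

open Subgroup Cfsg Module
open Cfsg.Agent.H537.Cop (CB)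
open Cfsg.Agent.H149.Sp
open Cfsg.Agent.H149.Sp.CopCo
open Cfsg.Agent.SigZeroCo2.Rank (fix)
open Cfsg.Agent.SigZeroCo2.Lin (rep)

universe u

theorem cb_twentythree_three : CB 23 3 0 Spor.Co2 := by
  have := finite_co2
  refine CB.of_ne Nat.prime_three fun x y hx hy hc => ?_
  have h1 : f2 y * f2 x = f2 x * f2 y := by rw [← map_mul, ← hc, map_mul]
  have ox : orderOf (f2 x) = 23 := (orderOf_injective f2 f2_inj x).trans hx
  have oy : orderOf (f2 y) = 3 := (orderOf_injective f2 f2_inj y).trans hy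
  have h2 := co0_pair (p := 3) (q := 23) Nat.prime_three (by norm_num) (by norm_num)
    (by rw [← oy, pow_orderOf_eq_one]) (by rw [← ox, pow_orderOf_eq_one]) h1 (by omega)
  have h3 := fd_le (p := 23) (by simp) ox
  have h4 : fd (f2 y) ≤ 12 := by
    have h5 := Cfsg.Agent.PreUniqCo.Facts.facts.dims _ oy
    unfold fd
    omega
  simp [B] at h3
  omega

theorem card_eq {L : Type u} [Group L] (h : Spor.IsoCo2 L) : Nat.card L = 2 ^ 18 * (3 ^ 6 * 5 ^ 3 * 7 * 11 * 23) := by
  rw [Cfsg.Agent.BiChar.Small.card_of_isoCo2 h]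
  norm_num

theorem prime_cases {r : ℕ} (hr : r.Prime) (hr2 : r ≠ 2) (hd : r ∣ 2 ^ 18 * (3 ^ 6 * 5 ^ 3 * 7 * 11 * 23)) :
    r = 3 ∨ P5 r := by
  have h : ∀ a n : ℕ, a.Prime → r ∣ a ^ n → r = a := fun a n ha h =>
    (Nat.prime_dvd_prime_iff_eq hr ha).1 (hr.dvd_of_dvd_pow h)
  rcases (hr.dvd_mul).1 hd with hd | hd
  · exact absurd (h 2 _ Nat.prime_two hd) hr2
  rcases (hr.dvd_mul).1 hd with hd | hd
  · rcases (hr.dvd_mul).1 hd with hd | hd
    · rcases (hr.dvd_mul).1 hd with hd | hd
      · rcases (hr.dvd_mul).1 hd with hd | hd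
        · exact Or.inl (h 3 _ (by norm_num) hd)
        · exact Or.inr (Or.inl (h 5 _ (by norm_num) hd))
      · exact Or.inr (Or.inr (Or.inl (h 7 1 (by norm_num) hd)))
    · exact Or.inr (Or.inr (Or.inr (Or.inl (h 11 1 (by norm_num) hd))))
  · exact Or.inr (Or.inr (Or.inr (Or.inr (Or.inr (h 23 1 (by norm_num) hd)))))

theorem cop_of {r s : ℕ} {L : Type u} [Group L] [Finite L] (h : CB r s 0 L) (hs : s.Prime) {b : L} (hb : orderOf b = r)
    (n : ℕ) : (Nat.card (centralizer ({b} : Set L))).Coprime (s ^ n) := by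
  refine Nat.Coprime.pow_right n ?_
  refine ((Nat.Prime.coprime_iff_not_dvd hs).2 fun hd => ?_).symm
  exact h b hb (by rw [zero_add, pow_one]; exact hd)

/-- symmetric form -/
theorem symm_cb {r s : ℕ} {L : Type u} [Group L] [Finite L] (h : CB r s 0 L) (hr : r.Prime) : CB s r 0 L :=
  CB.of_ne hr fun x y hx hy hc => h.ne y x hy hx hc.symm

theorem odd_dvd {L : Type u} [Group L] [Finite L] (h : Spor.IsoCo2 L) {b : L} (hb : (orderOf b).Prime)
    (hb2 : orderOf b ≠ 2) :
    ∃ m : ℕ, m ≠ 0 ∧ m < 2 ^ 18 ∧ Nat.card (centralizer ({b} : Set L)) ∣ 2 ^ 18 * m := by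
  obtain ⟨e⟩ := id h
  have hc : Nat.card (centralizer ({b} : Set L)) ∣ 2 ^ 18 * (3 ^ 6 * 5 ^ 3 * 7 * 11 * 23) := by
    rw [← card_eq h]
    exact card_subgroup_dvd_card _
  have p5 : ∀ {p q : ℕ}, P5 p → P5 q → p ≠ q → CB p q 0 L := fun hp hq hpq => (co2_p5 hp hq hpq).congr e
  have h5 : P5 5 := Or.inl rfl
  have h7 : P5 7 := Or.inr (Or.inl rfl)
  have h11 : P5 11 := Or.inr (Or.inr (Or.inl rfl))
  have h23 : P5 23 := Or.inr (Or.inr (Or.inr (Or.inr rfl)))
  rcases prime_cases hb hb2 ((orderOf_dvd_natCard b).trans (dvd_of_eq (card_eq h))) with hr | hr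
  · -- order three
    have c23 := cop_of (symm_cb (cb_twentythree_three.congr e) (by norm_num)) (by norm_num) hr 1
    have c11 := cop_of (symm_cb (co2_11_3.congr e) (by norm_num)) (by norm_num) hr 1
    have c25 : ¬ 5 ^ (1 + 1) ∣ Nat.card (centralizer ({b} : Set L)) := (co2_3_5.congr e) b hr
    have e1 : Nat.card (centralizer ({b} : Set L)) ∣ 2 ^ 18 * (3 ^ 6 * 5 ^ 3 * 7 * 11) := by
      rw [pow_one] at c23
      exact c23.dvd_of_dvd_mul_right (hc.trans (dvd_of_eq (by ring)))
    have e2 : Nat.card (centralizer ({b} : Set L)) ∣ 2 ^ 18 * (3 ^ 6 * 5 ^ 3 * 7) := by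
      rw [pow_one] at c11
      exact c11.dvd_of_dvd_mul_right (e1.trans (dvd_of_eq (by ring)))
    have hc0 : Nat.card (centralizer ({b} : Set L)) ≠ 0 := Nat.card_pos.ne'
    obtain ⟨k, d, hd, hH⟩ := Nat.exists_eq_pow_mul_and_not_dvd hc0 5 (by norm_num)
    have hk : k < 2 := by
      by_contra hcon
      apply c25
      rw [hH]
      exact (pow_dvd_pow 5 (show 1 + 1 ≤ k by omega)).trans (dvd_mul_right _ _)
    have e3 : d ∣ 2 ^ 18 * (3 ^ 6 * 7) := by
      refine Nat.Coprime.dvd_of_dvd_mul_right (n := 5 ^ 3) ?_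
        ((Dvd.intro_left _ hH.symm).trans (e2.trans (dvd_of_eq (by ring))))
      exact (((Nat.Prime.coprime_iff_not_dvd (by norm_num)).2 hd).symm).pow_right 3
    refine ⟨3 ^ 6 * 7 * 5, by norm_num, by norm_num, ?_⟩
    rw [hH, mul_comm]
    have e4 := mul_dvd_mul e3 ((pow_dvd_pow 5 (show k ≤ 1 by omega)).trans (dvd_of_eq (pow_one 5)))
    exact e4.trans (dvd_of_eq (by ring))
  · -- the other orders
    have c5 : orderOf b ≠ 5 → (Nat.card (centralizer ({b} : Set L))).Coprime (5 ^ 3) := fun hne =>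
      cop_of (p5 hr h5 hne) (by norm_num) rfl 3
    have c7 : orderOf b ≠ 7 → (Nat.card (centralizer ({b} : Set L))).Coprime 7 := fun hne => by
      have := cop_of (p5 hr h7 hne) (by norm_num) rfl 1
      rwa [pow_one] at this
    have c11 : orderOf b ≠ 11 → (Nat.card (centralizer ({b} : Set L))).Coprime 11 := fun hne => by
      have := cop_of (p5 hr h11 hne) (by norm_num) rfl 1
      rwa [pow_one] at this
    have c23 : orderOf b ≠ 23 → (Nat.card (centralizer ({b} : Set L))).Coprime 23 := fun hne => by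
      have := cop_of (p5 hr h23 hne) (by norm_num) rfl 1
      rwa [pow_one] at this
    by_cases n5 : orderOf b = 5
    · refine ⟨3 ^ 6 * 5 ^ 3, by norm_num, by norm_num, ?_⟩
      have e1 := (c23 (by omega)).dvd_of_dvd_mul_right (hc.trans (dvd_of_eq
        (show _ = 2 ^ 18 * (3 ^ 6 * 5 ^ 3 * 7 * 11) * 23 by ring)))
      have e2 := (c11 (by omega)).dvd_of_dvd_mul_right (e1.trans (dvd_of_eq
        (show _ = 2 ^ 18 * (3 ^ 6 * 5 ^ 3 * 7) * 11 by ring)))
      exact (c7 (by omega)).dvd_of_dvd_mul_right (e2.trans (dvd_of_eq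
        (show _ = 2 ^ 18 * (3 ^ 6 * 5 ^ 3) * 7 by ring)))
    · have e0 := (c5 n5).dvd_of_dvd_mul_right (hc.trans (dvd_of_eq
        (show _ = 2 ^ 18 * (3 ^ 6 * 7 * 11 * 23) * 5 ^ 3 by ring)))
      by_cases n23 : orderOf b = 23
      · refine ⟨3 ^ 6 * 23, by norm_num, by norm_num, ?_⟩
        have e1 := (c11 (by omega)).dvd_of_dvd_mul_right (e0.trans (dvd_of_eq
          (show _ = 2 ^ 18 * (3 ^ 6 * 7 * 23) * 11 by ring)))
        exact (c7 (by omega)).dvd_of_dvd_mul_right (e1.trans (dvd_of_eq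
          (show _ = 2 ^ 18 * (3 ^ 6 * 23) * 7 by ring)))
      · refine ⟨3 ^ 6 * 7 * 11, by norm_num, by norm_num, ?_⟩
        exact (c23 n23).dvd_of_dvd_mul_right (e0.trans (dvd_of_eq
          (show _ = 2 ^ 18 * (3 ^ 6 * 7 * 11) * 23 by ring)))

/-- **The odd row of `Co₂`.** -/
theorem row {L : Type u} [Group L] [Finite L] (h : Spor.IsoCo2 L) {p : ℕ} {a : MulAut L} {b : L}
    (S : Cfsg.Agent.H516.Sit p a b) : False := by
  obtain ⟨m, hm0, hm, hd⟩ := odd_dvd h S.bprime S.b_ne_two
  exact S.false_of_dvd (k := 18) ⟨_, card_eq h⟩ hd hm0 hm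

end Cfsg.Agent.H220.S4096.RowCo2
end
end
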